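import Mathlib

/-! Presentations of divided power polynomial algebras by a monomial basis. -/

set_option autoImplicit false

open Finset

namespace DPPolyLib

variable {σ : Type*}

/-- The multiplication rules of divided powers of variables. -/
structure Rules {S : Type*} [CommSemiring S] (g : σ → ℕ → S) : Prop where
  zero : ∀ l, g l 0 = 1
  mul : ∀ l n m, g l n * g l m = ((n + m).choose n : S) * g l (n + m)

/-- The structure constants. -/
noncomputable def c (e f : σ →₀ ℕ) : ℕ :=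
  haveI := Classical.decEq σ
  ∏ i ∈ e.support ∪ f.support, (e i + f i).choose (e i)

section rules
variable {S : Type*} [CommSemiring S] {g : σ → ℕ → S}

theorem Rules.prod_mul (hg : Rules g) (e f : σ →₀ ℕ) :
    e.prod g * f.prod g = (c e f : S) * (e + f).prod g := by
  classical
  have key : ∀ d : σ →₀ ℕ, d.support ⊆ e.support ∪ f.support → d.prod g = ∏ i ∈ e.support ∪ f.support, g i (d i) :=
    fun d hd => Finsupp.prod_of_support_subset _ hd _ (fun i _ => hg.zero i)
  rw [key e subset_union_left, key f subset_union_right, key (e + f) Finsupp.support_add, c, Nat.cast_prod,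
    ← prod_mul_distrib, ← prod_mul_distrib]
  refine prod_congr ?_ fun i _ => by rw [Finsupp.add_apply]; exact hg.mul _ _ _
  congr

theorem Rules.one_pow (hg : Rules g) (l : σ) : ∀ n : ℕ, g l 1 ^ n = (n.factorial : S) * g l n := by
  intro n
  induction n with
  | zero => simp [hg.zero]
  | succ n ih =>
    rw [pow_succ, ih, mul_assoc, hg.mul l n 1, ← mul_assoc, ← Nat.cast_mul, Nat.choose_succ_self_right,
      mul_comm n.factorial, ← Nat.factorial_succ]

theorem Rules.pow_eq [IsAddTorsionFree S] (hg : Rules g) (l : σ) {n : ℕ} (hn : n ≠ 0) (m : ℕ) :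
    g l n ^ m = (m.factorial : S) * ((m.uniformBell n : S) * g l (m * n)) := by
  have h : (n.factorial ^ m) • (g l n ^ m) =
      (n.factorial ^ m) • ((m.factorial : S) * ((m.uniformBell n : S) * g l (m * n))) := by
    rw [nsmul_eq_mul, nsmul_eq_mul, Nat.cast_pow, ← mul_pow, ← hg.one_pow, ← pow_mul, mul_comm n m,
      hg.one_pow, ← Nat.uniformBell_mul_eq m hn]
    push_cast
    ring
  exact nsmul_right_injective (pow_ne_zero m n.factorial_ne_zero) h

theorem rules_indicator : Rules (fun (_ : σ) (n : ℕ) => if n = 0 then (1 : S) else 0) := by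
  refine ⟨fun l => if_pos rfl, fun l n m => ?_⟩
  rcases eq_or_ne n 0 with rfl | hn
  · simp
  · simp [hn]

theorem rules_dpow {T : Type*} [CommRing T] {J : Ideal T} (δ : DividedPowers J) (s : σ → T)
    (hs : ∀ i, s i ∈ J) : Rules (fun l n => δ.dpow n (s l)) :=
  ⟨fun l => δ.dpow_zero (hs l), fun l _ _ => δ.mul_dpow (hs l)⟩

end rules

/-- The augmentation ideal. -/
def aug {P : Type*} [CommRing P] (x : σ → ℕ → P) : Ideal P :=
  Ideal.span {y : P | ∃ (l : σ) (n : ℕ), 1 ≤ n ∧ y = x l n}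

variable {R : Type*} [CommRing R] {P : Type*} [CommRing P] [Algebra R P]

/-- A monomial basis. -/
structure IsModel (x : σ → ℕ → P) (b : Module.Basis (σ →₀ ℕ) R P) : Prop where
  rules : Rules x
  eq : ∀ e, b e = e.prod x

variable {x : σ → ℕ → P} {b : Module.Basis (σ →₀ ℕ) R P}

namespace IsModel

theorem b_zero (h : IsModel x b) : b 0 = 1 := by rw [h.eq, Finsupp.prod_zero_index]

theorem b_single (h : IsModel x b) (l : σ) (n : ℕ) : b (Finsupp.single l n) = x l n := by
  rw [h.eq, Finsupp.prod_single_index (h.rules.zero l)]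

/-- The induced algebra map. -/
noncomputable def lift (h : IsModel x b) {S : Type*} [CommRing S] [Algebra R S] {g : σ → ℕ → S} (hg : Rules g) :
    P →ₐ[R] S :=
  AlgHom.ofLinearMap (b.constr ℕ fun e => e.prod g) (by rw [← h.b_zero, b.constr_basis]; exact Finsupp.prod_zero_index) (by
    rw [LinearMap.map_mul_iff]
    refine b.ext fun e => b.ext fun e' => ?_
    simp only [LinearMap.compr₂_apply, LinearMap.mul_apply', LinearMap.compl₂_apply, LinearMap.coe_comp,
      Function.comp_apply, b.constr_basis]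
    rw [h.eq, h.eq, h.rules.prod_mul, hg.prod_mul, ← nsmul_eq_mul, ← nsmul_eq_mul, map_nsmul, ← h.eq,
      b.constr_basis])

theorem lift_basis (h : IsModel x b) {S : Type*} [CommRing S] [Algebra R S] {g : σ → ℕ → S} (hg : Rules g)
    (e : σ →₀ ℕ) : h.lift hg (b e) = e.prod g := by
  simp [lift]

theorem lift_x (h : IsModel x b) {S : Type*} [CommRing S] [Algebra R S] {g : σ → ℕ → S} (hg : Rules g)
    (l : σ) (n : ℕ) : h.lift hg (x l n) = g l n := by
  rw [← h.b_single, h.lift_basis, Finsupp.prod_single_index (hg.zero l)]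

theorem algHom_ext (h : IsModel x b) {S : Type*} [CommRing S] [Algebra R S] {φ ψ : P →ₐ[R] S}
    (he : ∀ l n, φ (x l n) = ψ (x l n)) : φ = ψ :=
  AlgHom.toLinearMap_injective <| b.ext fun e => by
    simp only [AlgHom.toLinearMap_apply, h.eq, map_finsuppProd, he]

/-- The augmentation. -/
noncomputable def eps (h : IsModel x b) : P →ₐ[R] R := h.lift rules_indicator

theorem eps_basis_ne (h : IsModel x b) {e : σ →₀ ℕ} (he : e ≠ 0) : h.eps (b e) = 0 := by
  obtain ⟨l, hl⟩ := Finsupp.support_nonempty_iff.2 he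
  rw [eps, h.lift_basis, Finsupp.prod]
  exact prod_eq_zero hl (if_neg (Finsupp.mem_support_iff.1 hl))

theorem eps_eq_repr (h : IsModel x b) (p : P) : h.eps p = b.repr p 0 := by
  have : h.eps.toLinearMap = b.coord 0 := b.ext fun e => by
    rcases eq_or_ne e 0 with rfl | he
    · rw [AlgHom.toLinearMap_apply, Module.Basis.coord_apply, b.repr_self, Finsupp.single_eq_same, h.b_zero, map_one]
    · simp [h.eps_basis_ne he, Finsupp.single_eq_of_ne' he]
  exact LinearMap.congr_fun this p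

theorem x_mem_aug {l : σ} {n : ℕ} (hn : n ≠ 0) : x l n ∈ aug x :=
  Ideal.subset_span ⟨l, n, Nat.one_le_iff_ne_zero.2 hn, rfl⟩

theorem basis_mem_aug (h : IsModel x b) {e : σ →₀ ℕ} (he : e ≠ 0) : b e ∈ aug x := by
  obtain ⟨l, hl⟩ := Finsupp.support_nonempty_iff.2 he
  rw [h.eq, ← Finsupp.mul_prod_erase e l x hl]
  exact Ideal.mul_mem_right _ _ (x_mem_aug (Finsupp.mem_support_iff.1 hl))

theorem sub_eps_mem (h : IsModel x b) (p : P) : p - algebraMap R P (h.eps p) ∈ aug x := by
  induction b.mem_span p using Submodule.span_induction with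
  | mem y hy =>
    obtain ⟨e, rfl⟩ := hy
    rcases eq_or_ne e 0 with rfl | he
    · simp [h.b_zero]
    · simpa [h.eps_basis_ne he] using h.basis_mem_aug he
  | zero => simp
  | add y z _ _ hy hz => simpa [add_sub_add_comm] using (aug x).add_mem hy hz
  | smul r y _ hy =>
    have := (aug x).mul_mem_left (algebraMap R P r) hy
    simpa [Algebra.smul_def, mul_sub] using this

theorem mem_aug_iff (h : IsModel x b) (p : P) : p ∈ aug x ↔ h.eps p = 0 := by
  refine ⟨fun hp => ?_, fun hp => by simpa [hp] using h.sub_eps_mem p⟩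
  refine (Ideal.span_le (I := RingHom.ker h.eps.toRingHom)).2 ?_ hp
  rintro _ ⟨l, n, hn, rfl⟩
  show h.eps (x l n) = 0
  rw [eps, h.lift_x]
  exact if_neg (by omega)

theorem mem_sup_iff (h : IsModel x b) (I : Ideal R) (p : P) :
    p ∈ I.map (algebraMap R P) ⊔ aug x ↔ h.eps p ∈ I := by
  refine ⟨fun hp => ?_, fun hp => ?_⟩
  · refine (sup_le ?_ ?_ : I.map (algebraMap R P) ⊔ aug x ≤ I.comap h.eps.toRingHom) hp
    · rw [Ideal.map_le_iff_le_comap]
      intro r hr
      simpa using hr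
    · intro q hq
      simp [Ideal.mem_comap, (h.mem_aug_iff q).1 hq]
  · rw [← add_sub_cancel (algebraMap R P (h.eps p)) p]
    exact add_mem (Ideal.mem_sup_left (Ideal.mem_map_of_mem _ hp)) (Ideal.mem_sup_right (h.sub_eps_mem p))

end IsModel

open DividedPowers

theorem sup_eq_span (I : Ideal R) (x : σ → ℕ → P) :
    I.map (algebraMap R P) ⊔ aug x =
      Ideal.span (algebraMap R P '' I ∪ {y : P | ∃ (l : σ) (n : ℕ), 1 ≤ n ∧ y = x l n}) :=
  (Ideal.span_union _ _).symm

omit [Algebra R P] in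
/-- Divided powers of the generators. -/
theorem dpow_x {J : Ideal P} (δ : DividedPowers J) (hJ : ∀ l, x l 1 ∈ J)
    (hδ : ∀ l n, δ.dpow n (x l 1) = x l n) (l : σ) {n : ℕ} (hn : n ≠ 0) (m : ℕ) :
    δ.dpow m (x l n) = (m.uniformBell n : P) * x l (m * n) := by
  rw [← hδ l n, δ.dpow_comp hn (hJ l), hδ]

omit [Algebra R P] in
theorem isSubDPIdeal_aug {J : Ideal P} (δ : DividedPowers J) (hJ : aug x ≤ J)
    (hδ : ∀ l n, δ.dpow n (x l 1) = x l n) : δ.IsSubDPIdeal (aug x) := by
  refine (span_isSubDPIdeal_iff (fun y hy => hJ (Ideal.subset_span hy))).2 ?_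
  rintro m hm _ ⟨l, n, hn, rfl⟩
  rw [dpow_x δ (fun l => hJ (IsModel.x_mem_aug one_ne_zero)) hδ l (by omega) m]
  exact Ideal.mul_mem_left _ _ (IsModel.x_mem_aug (Nat.mul_ne_zero hm (by omega)))

omit [Algebra R P] in
theorem aug_dp_unique (δ δ' : DividedPowers (aug x)) (h : ∀ l n, δ.dpow n (x l 1) = x l n)
    (h' : ∀ l n, δ'.dpow n (x l 1) = x l n) : δ' = δ := by
  refine dpow_eq_from_gens δ δ' (S := {y : P | ∃ (l : σ) (n : ℕ), 1 ≤ n ∧ y = x l n}) rfl ?_
  rintro m _ ⟨l, n, hn, rfl⟩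
  rw [dpow_x δ (fun l => IsModel.x_mem_aug one_ne_zero) h l (by omega) m,
    dpow_x δ' (fun l => IsModel.x_mem_aug one_ne_zero) h' l (by omega) m]

theorem sup_dp_unique {I : Ideal R} (γ : DividedPowers I) (δ δ' : DividedPowers (I.map (algebraMap R P) ⊔ aug x))
    (h : γ.IsDPMorphism δ (algebraMap R P)) (h' : γ.IsDPMorphism δ' (algebraMap R P))
    (hx : ∀ l n, δ.dpow n (x l 1) = x l n) (hx' : ∀ l n, δ'.dpow n (x l 1) = x l n) : δ' = δ := by
  refine dpow_eq_from_gens δ δ' (sup_eq_span I x) ?_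
  rintro m _ (⟨a, ha, rfl⟩ | ⟨l, n, hn, rfl⟩)
  · rw [h.dpow_comp a ha, h'.dpow_comp a ha]
  · rw [dpow_x δ (fun l => Ideal.mem_sup_right (IsModel.x_mem_aug one_ne_zero)) hx l (by omega) m,
      dpow_x δ' (fun l => Ideal.mem_sup_right (IsModel.x_mem_aug one_ne_zero)) hx' l (by omega) m]

/-- Recognition of divided power morphisms. -/
theorem isDPMorphism_of_x {I : Ideal R} {γ : DividedPowers I} {J : Ideal P} (hJe : J = I.map (algebraMap R P) ⊔ aug x)
    (δ : DividedPowers J) (h : γ.IsDPMorphism δ (algebraMap R P)) (hx : ∀ l n, δ.dpow n (x l 1) = x l n)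
    {S : Type*} [CommRing S] {K : Ideal S} (ε : DividedPowers K) (f : P →+* S)
    (hf : γ.IsDPMorphism ε (f.comp (algebraMap R P))) (s : σ → S) (hs : ∀ l, s l ∈ K)
    (hfx : ∀ l n, f (x l n) = ε.dpow n (s l)) : δ.IsDPMorphism ε f := by
  refine IsDPMorphism.on_span δ ε (hJe.trans (sup_eq_span I x)) ?_ ?_
  · rintro _ (⟨a, ha, rfl⟩ | ⟨l, n, hn, rfl⟩)
    · exact hf.ideal_comp (Ideal.mem_map_of_mem _ ha)
    · rw [hfx]; exact ε.dpow_mem (by omega) (hs l)
  · rintro m _ (⟨a, ha, rfl⟩ | ⟨l, n, hn, rfl⟩)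
    · rw [h.dpow_comp a ha]; exact (hf.dpow_comp a ha).symm
    · rw [dpow_x δ (fun l => hJe ▸ Ideal.mem_sup_right (IsModel.x_mem_aug one_ne_zero)) hx l (by omega) m,
        map_mul, map_natCast, hfx, hfx, ε.dpow_comp (by omega) (hs l)]

end DPPolyLib
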