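import Mathlib
import Groth.Agent.DPPolyLib.Basic
import Groth.Agent.S6501

/-! The divided power polynomial algebra over a characteristic zero domain. -/

set_option autoImplicit false

open MvPolynomial

universe u v

namespace DPPolyLib

variable (B : Type u) [CommRing B] [IsDomain B] [CharZero B] (σ : Type v)

/-- The monomial divided powers. -/
noncomputable def yK (l : σ) (n : ℕ) : MvPolynomial σ (FractionRing B) :=
  monomial (Finsupp.single l n) ((n.factorial : FractionRing B)⁻¹)

theorem rules_yK : Rules (yK B σ) := by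
  refine ⟨fun l => by simp [yK], fun l n m => ?_⟩
  rw [yK, yK, yK, monomial_mul, ← Finsupp.single_add, ← map_natCast (C : FractionRing B →+* MvPolynomial σ (FractionRing B)),
    C_mul_monomial]
  congr 1
  have h := Nat.add_choose_mul_factorial_mul_factorial n m
  have hn : (n.factorial : FractionRing B) ≠ 0 := Nat.cast_ne_zero.2 n.factorial_ne_zero
  have hm : (m.factorial : FractionRing B) ≠ 0 := Nat.cast_ne_zero.2 m.factorial_ne_zero
  have hnm : ((n + m).factorial : FractionRing B) ≠ 0 := Nat.cast_ne_zero.2 (n + m).factorial_ne_zero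
  rw [← Nat.choose_symm_add] at h
  field_simp
  rw [← h]
  push_cast
  ring

theorem prod_yK (e : σ →₀ ℕ) : ∃ a : FractionRing B, a ≠ 0 ∧ e.prod (yK B σ) = monomial e a := by
  classical
  induction e using Finsupp.induction with
  | zero => exact ⟨1, one_ne_zero, by simp⟩
  | single_add l n f hl hn ih =>
    obtain ⟨a, ha, hf⟩ := ih
    refine ⟨(n.factorial : FractionRing B)⁻¹ * a,
      mul_ne_zero (inv_ne_zero (Nat.cast_ne_zero.2 n.factorial_ne_zero)) ha, ?_⟩
    rw [Finsupp.prod_add_index_of_disjoint, Finsupp.prod_single_index ((rules_yK B σ).zero l), hf, yK, monomial_mul]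
    rw [Finsupp.support_single_ne_zero _ hn]
    simpa using hl

/-- The underlying subalgebra. -/
noncomputable def modelAlg : Subalgebra B (MvPolynomial σ (FractionRing B)) :=
  (Submodule.span B (Set.range fun e : σ →₀ ℕ => e.prod (yK B σ))).toSubalgebra
    (Submodule.subset_span ⟨0, by simp⟩) (fun p q hp hq => by
      induction hp, hq using Submodule.span_induction₂ with
      | mem_mem p q hp hq =>
        obtain ⟨e, rfl⟩ := hp
        obtain ⟨f, rfl⟩ := hq
        rw [(rules_yK B σ).prod_mul, ← nsmul_eq_mul]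
        exact nsmul_mem (Submodule.subset_span (Set.mem_range_self (e + f))) _
      | zero_left y hy => simp
      | zero_right x hx => simp
      | add_left x y z _ _ _ h₁ h₂ => rw [add_mul]; exact add_mem h₁ h₂
      | add_right x y z _ _ _ h₁ h₂ => rw [mul_add]; exact add_mem h₁ h₂
      | smul_left r x y _ _ h => rw [smul_mul_assoc]; exact Submodule.smul_mem _ r h
      | smul_right r x y _ _ h => rw [mul_smul_comm]; exact Submodule.smul_mem _ r h)

/-- The divided power polynomial algebra over `B`. -/
noncomputable abbrev Model : Type (max u v) := modelAlg B σ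

/-- Its variables. -/
noncomputable def xM (l : σ) (n : ℕ) : Model B σ :=
  ⟨yK B σ l n, Submodule.subset_span ⟨Finsupp.single l n, Finsupp.prod_single_index ((rules_yK B σ).zero l)⟩⟩

theorem rules_xM : Rules (xM B σ) := by
  refine ⟨fun l => Subtype.ext ((rules_yK B σ).zero l), fun l n m => Subtype.ext ?_⟩
  rw [MulMemClass.coe_mul, MulMemClass.coe_mul, SubringClass.coe_natCast]
  exact (rules_yK B σ).mul l n m

theorem coe_prod_xM (e : σ →₀ ℕ) : (modelAlg B σ).val (e.prod (xM B σ)) = e.prod (yK B σ) :=
  map_finsuppProd (modelAlg B σ).val e (xM B σ)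

theorem linearIndependent_xM : LinearIndependent B fun e : σ →₀ ℕ => e.prod (xM B σ) := by
  classical
  refine LinearIndependent.of_comp (modelAlg B σ).val.toLinearMap (linearIndependent_iff'.2 fun s g hg e he => ?_)
  have h := congrArg (coeff e) hg
  obtain ⟨a, ha, hea⟩ := prod_yK B σ e
  simp only [Function.comp_apply, AlgHom.toLinearMap_apply, coe_prod_xM, coeff_sum, coeff_zero,
    coeff_smul] at h
  rw [Finset.sum_eq_single_of_mem e he fun f _ hf => ?_] at h
  · rw [hea, coeff_monomial, if_pos rfl] at h
    rcases smul_eq_zero.1 h with h | h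
    · exact h
    · exact absurd h ha
  · obtain ⟨c, -, hc⟩ := prod_yK B σ f
    rw [hc, coeff_monomial, if_neg hf, smul_zero]

/-- Its monomial basis. -/
noncomputable def basisM : Module.Basis (σ →₀ ℕ) B (Model B σ) :=
  Module.Basis.mk (linearIndependent_xM B σ) (by
    rintro ⟨p, hp⟩ -
    have : Submodule.span B (Set.range fun e : σ →₀ ℕ => e.prod (yK B σ)) ≤
        (Submodule.span B (Set.range fun e : σ →₀ ℕ => e.prod (xM B σ))).map (modelAlg B σ).val.toLinearMap := by
      rw [Submodule.map_span, ← Set.range_comp]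
      exact Submodule.span_mono (Set.range_subset_iff.2 fun e => ⟨e, coe_prod_xM B σ e⟩)
    obtain ⟨q, hq, hqe⟩ := this hp
    rwa [show (⟨p, hp⟩ : Model B σ) = q from Subtype.ext hqe.symm])

theorem isModel_model : IsModel (xM B σ) (basisM B σ) :=
  ⟨rules_xM B σ, fun _ => Module.Basis.mk_apply _ _ _⟩

theorem torsionFree_model : IsAddTorsionFree (Model B σ) := inferInstance

variable {B σ} in
/-- Divided powers on torsion free models. -/
theorem exists_dp_torsionFree {P : Type*} [CommRing P] [Algebra B P] [IsAddTorsionFree P] {x : σ → ℕ → P}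
    (hx : Rules x) {I : Ideal B} (γ : DividedPowers I) :
    ∃ δ : DividedPowers (I.map (algebraMap B P) ⊔ aug x),
      γ.IsDPMorphism δ (algebraMap B P) ∧ ∀ l n, δ.dpow n (x l 1) = x l n := by
  obtain ⟨δ⟩ := (Groth.Agent.S6501.result (I.map (algebraMap B P) ⊔ aug x)).2.2
    ⟨_, (sup_eq_span I x).symm, by
      rintro y (⟨a, ha, rfl⟩ | ⟨l, n, hn, rfl⟩) m hm
      · rw [← map_pow, ← γ.factorial_mul_dpow_eq_pow ha, map_mul, map_natCast]
        exact Ideal.mul_mem_mul (Ideal.mem_span_singleton_self _)
          (Ideal.mem_sup_left (Ideal.mem_map_of_mem _ (γ.dpow_mem (by omega) ha)))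
      · rw [hx.pow_eq l (by omega) m]
        exact Ideal.mul_mem_mul (Ideal.mem_span_singleton_self _)
          (Ideal.mem_sup_right (Ideal.mul_mem_left _ _ (IsModel.x_mem_aug (Nat.mul_ne_zero (by omega) (by omega)))))⟩
  have hcancel : ∀ (n : ℕ) {a c : P}, (n.factorial : P) * a = (n.factorial : P) * c → a = c := by
    intro n a c h
    rw [← nsmul_eq_mul, ← nsmul_eq_mul] at h
    exact nsmul_right_injective n.factorial_ne_zero h
  refine ⟨δ, ⟨le_sup_left, fun {n} a ha => hcancel n ?_⟩, fun l n => hcancel n ?_⟩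
  · rw [δ.factorial_mul_dpow_eq_pow (Ideal.mem_sup_left (Ideal.mem_map_of_mem _ ha)), ← map_natCast (algebraMap B P),
      ← map_mul, γ.factorial_mul_dpow_eq_pow ha, map_pow]
  · rw [δ.factorial_mul_dpow_eq_pow (Ideal.mem_sup_right (IsModel.x_mem_aug one_ne_zero)), hx.one_pow]

end DPPolyLib
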