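import Mathlib
import Groth.Agent.DPPolyLib.Model

/-! Divided powers on divided power polynomial algebras. -/

set_option autoImplicit false

open DividedPowers

universe u v w

namespace DPPolyLib

/-- A torsion free cover of a ring with divided powers. -/
theorem exists_cover {R : Type u} [CommRing R] {I : Ideal R} (γ : DividedPowers I) :
    ∃ (B : Type u) (_ : CommRing B) (_ : IsDomain B) (_ : CharZero B) (IB : Ideal B) (γB : DividedPowers IB)
      (π : B →+* R), Function.Surjective π ∧ IB.map π = I ∧ γB.IsDPMorphism γ π := by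
  let B0 := MvPolynomial R ℤ
  letI : Algebra B0 R := (MvPolynomial.eval₂Hom (Int.castRingHom R) id).toAlgebra
  haveI : IsAddTorsionFree (Model B0 I) := torsionFree_model _ _
  have hg : Rules (fun (a : I) n => γ.dpow n (a : R)) := rules_dpow γ _ fun a => a.2
  let π := (isModel_model B0 I).lift hg
  obtain ⟨δ, -, hδ⟩ := exists_dp_torsionFree (B := B0) (P := Model B0 I) (rules_xM B0 I) (dividedPowersBot (A := B0))
  have hπx : ∀ (a : I) n, π (xM B0 I a n) = γ.dpow n (a : R) := fun a n => (isModel_model B0 I).lift_x hg a n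
  have hbot : (⊥ : Ideal B0).map (algebraMap B0 (Model B0 I)) = ⊥ := Ideal.map_bot
  have hJ : ∀ l, xM B0 I l 1 ∈ (⊥ : Ideal B0).map (algebraMap B0 (Model B0 I)) ⊔ aug (xM B0 I) :=
    fun l => Ideal.mem_sup_right (IsModel.x_mem_aug one_ne_zero)
  have hspan : (⊥ : Ideal B0).map (algebraMap B0 (Model B0 I)) ⊔ aug (xM B0 I) =
      Ideal.span {y : Model B0 I | ∃ (l : I) (n : ℕ), 1 ≤ n ∧ y = xM B0 I l n} := by rw [hbot, bot_sup_eq]; rfl
  refine ⟨Model B0 I, inferInstance, inferInstance, inferInstance, _, δ, π.toRingHom, fun r => ?_, ?_, ?_⟩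
  · refine ⟨algebraMap B0 (Model B0 I) (MvPolynomial.X r), ?_⟩
    show π _ = r
    rw [AlgHom.commutes]
    exact MvPolynomial.eval₂_X _ _ _
  · refine le_antisymm ?_ fun a ha => ?_
    · rw [hspan, Ideal.map_span, Ideal.span_le]
      rintro _ ⟨_, ⟨l, n, hn, rfl⟩, rfl⟩
      show π _ ∈ I
      rw [hπx]
      exact γ.dpow_mem (by omega) l.2
    · have := Ideal.mem_map_of_mem π.toRingHom (hJ ⟨a, ha⟩)
      rwa [show π.toRingHom (xM B0 I ⟨a, ha⟩ 1) = a from (hπx _ _).trans (γ.dpow_one ha)] at this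
  · refine IsDPMorphism.on_span δ γ hspan ?_ ?_
    · rintro _ ⟨l, n, hn, rfl⟩
      show π _ ∈ I
      rw [hπx]
      exact γ.dpow_mem (by omega) l.2
    · rintro m _ ⟨l, n, hn, rfl⟩
      show π _ = γ.dpow m (π _)
      rw [dpow_x δ hJ hδ l (by omega) m, map_mul, map_natCast, hπx, hπx, γ.dpow_comp (by omega) l.2]

/-- Existence of divided powers on a divided power polynomial algebra. -/
theorem exists_dp {R : Type u} [CommRing R] {I : Ideal R} (γ : DividedPowers I) {σ : Type w} {P : Type v}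
    [CommRing P] [Algebra R P] {x : σ → ℕ → P} {b : Module.Basis (σ →₀ ℕ) R P} (hM : IsModel x b) :
    ∃ δ : DividedPowers (I.map (algebraMap R P) ⊔ aug x),
      γ.IsDPMorphism δ (algebraMap R P) ∧ ∀ l n, δ.dpow n (x l 1) = x l n := by
  classical
  obtain ⟨B, _, _, _, IB, γB, π, hπ, hIB, hdp⟩ := exists_cover γ
  letI : Algebra B P := ((algebraMap R P).comp π).toAlgebra
  haveI : IsAddTorsionFree (Model B σ) := torsionFree_model _ _
  have h0 := isModel_model B σ
  obtain ⟨δ, hδm, hδx⟩ := exists_dp_torsionFree (B := B) (P := Model B σ) (rules_xM B σ) γB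
  let Φ := h0.lift hM.rules
  have hΦx : ∀ l n, Φ (xM B σ l n) = x l n := fun l n => h0.lift_x hM.rules l n
  have hΦa : ∀ a, Φ (algebraMap B (Model B σ) a) = algebraMap R P (π a) := fun a => Φ.commutes a
  have hsurj : Function.Surjective Φ.toRingHom := fun p => by
    induction b.mem_span p using Submodule.span_induction with
    | mem y hy =>
      obtain ⟨e, rfl⟩ := hy
      exact ⟨basisM B σ e, (h0.lift_basis hM.rules e).trans (hM.eq e).symm⟩
    | zero => exact ⟨0, map_zero _⟩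
    | add y z _ _ hy hz =>
      obtain ⟨y', rfl⟩ := hy; obtain ⟨z', rfl⟩ := hz
      exact ⟨y' + z', map_add _ _ _⟩
    | smul r y _ hy =>
      obtain ⟨y', rfl⟩ := hy; obtain ⟨a, rfl⟩ := hπ r
      refine ⟨algebraMap B _ a * y', ?_⟩
      rw [map_mul, Algebra.smul_def]
      exact congrArg (· * _) (hΦa a)
  have hJ : I.map (algebraMap R P) ⊔ aug x =
      (IB.map (algebraMap B (Model B σ)) ⊔ aug (xM B σ)).map Φ.toRingHom := by
    rw [Ideal.map_sup, Ideal.map_map, ← hIB, Ideal.map_map]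
    congr 1
    · congr 1
      ext a
      exact (hΦa a).symm
    · rw [aug, aug, Ideal.map_span]
      congr 1
      ext y
      refine ⟨?_, ?_⟩
      · rintro ⟨l, n, hn, rfl⟩; exact ⟨_, ⟨l, n, hn, rfl⟩, hΦx l n⟩
      · rintro ⟨_, ⟨l, n, hn, rfl⟩, rfl⟩; exact ⟨l, n, hn, hΦx l n⟩
  let S : Set (Model B σ) := {y | ∃ a, a ∈ IB ∧ π a = 0 ∧ y = algebraMap B _ a} ∪
    {y | ∃ (a : B) (e : σ →₀ ℕ), π a = 0 ∧ e ≠ 0 ∧ y = algebraMap B _ a * basisM B σ e}
  have hrepr : ∀ p e, π ((basisM B σ).repr p e) = b.repr (Φ p) e := by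
    intro p e
    induction (basisM B σ).mem_span p using Submodule.span_induction with
    | mem y hy =>
      obtain ⟨f, rfl⟩ := hy
      rw [show Φ (basisM B σ f) = b f from (h0.lift_basis hM.rules f).trans (hM.eq f).symm, Module.Basis.repr_self,
        Module.Basis.repr_self, Finsupp.single_apply, Finsupp.single_apply]
      split_ifs <;> simp
    | zero => simp
    | add y z _ _ hy hz => simp [hy, hz]
    | smul a y _ hy =>
      rw [map_smul, Finsupp.smul_apply, smul_eq_mul, map_mul, hy, Algebra.smul_def, map_mul, hΦa,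
        ← Algebra.smul_def, map_smul, Finsupp.smul_apply, smul_eq_mul]
  have hker : RingHom.ker Φ.toRingHom ⊓ (IB.map (algebraMap B (Model B σ)) ⊔ aug (xM B σ)) = Ideal.span S := by
    refine le_antisymm (fun p hp => ?_) (Ideal.span_le.2 ?_)
    · obtain ⟨hp1, hp2⟩ := hp
      have hp0 : Φ p = 0 := hp1
      rw [SetLike.mem_coe, h0.mem_sup_iff, h0.eps_eq_repr] at hp2
      rw [← (basisM B σ).linearCombination_repr p, Finsupp.linearCombination_apply]
      refine Ideal.sum_mem _ fun e _ => ?_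
      have hz : π ((basisM B σ).repr p e) = 0 := by rw [hrepr, hp0, map_zero]; rfl
      simp only [Algebra.smul_def]
      rcases eq_or_ne e 0 with rfl | he
      · rw [h0.b_zero, mul_one]
        exact Ideal.subset_span (Or.inl ⟨_, hp2, hz, rfl⟩)
      · exact Ideal.subset_span (Or.inr ⟨_, e, hz, he, rfl⟩)
    · rintro _ (⟨a, ha, hz, rfl⟩ | ⟨a, e, hz, he, rfl⟩)
      · exact ⟨by show Φ _ = 0; rw [hΦa, hz, map_zero], Ideal.mem_sup_left (Ideal.mem_map_of_mem _ ha)⟩
      · exact ⟨by show Φ _ = 0; rw [map_mul, hΦa, hz, map_zero, zero_mul],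
          Ideal.mem_sup_right (Ideal.mul_mem_left _ _ (h0.basis_mem_aug he))⟩
  have hsub : δ.IsSubDPIdeal (RingHom.ker Φ.toRingHom ⊓ (IB.map (algebraMap B (Model B σ)) ⊔ aug (xM B σ))) := by
    rw [hker]
    refine (span_isSubDPIdeal_iff ?_).2 ?_
    · exact fun y hy => ((hker ▸ Ideal.subset_span hy : y ∈ RingHom.ker Φ.toRingHom ⊓ _) : _ ∧ _).2
    rintro n hn _ (⟨a, ha, hz, rfl⟩ | ⟨a, e, hz, he, rfl⟩)
    · rw [hδm.dpow_comp a ha]
      refine Ideal.subset_span (Or.inl ⟨_, γB.dpow_mem hn ha, ?_, rfl⟩)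
      rw [← hdp.dpow_comp a ha, hz, γ.dpow_eval_zero hn]
    · rw [δ.dpow_mul (Ideal.mem_sup_right (h0.basis_mem_aug he)), ← map_pow]
      have hmem := (isSubDPIdeal_aug δ le_sup_right hδx).dpow_mem n hn (h0.basis_mem_aug he)
      generalize δ.dpow n (basisM B σ e) = q at hmem ⊢
      induction hmem using Submodule.span_induction with
      | mem y hy =>
        obtain ⟨l, k, hk, rfl⟩ := hy
        refine Ideal.subset_span (Or.inr ⟨a ^ n, Finsupp.single l k, by rw [map_pow, hz, zero_pow hn],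
          Finsupp.single_ne_zero.2 (by omega), ?_⟩)
        rw [h0.b_single]
      | zero => simp
      | add y z _ _ hy hz => rw [mul_add]; exact Ideal.add_mem _ hy hz
      | smul r y _ hy => rw [smul_eq_mul, mul_left_comm]; exact Ideal.mul_mem_left _ _ hy
  let δ' := Quotient.OfSurjective.dividedPowers δ hsurj hJ hsub
  refine ⟨δ', ⟨le_sup_left, fun {n} a ha => ?_⟩, fun l n => ?_⟩
  · obtain ⟨a', ha', rfl⟩ := (Ideal.mem_map_iff_of_surjective π hπ).1 (hIB ▸ ha)
    rw [hdp.dpow_comp a' ha', ← hΦa, ← hΦa]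
    refine (Quotient.OfSurjective.dpow_apply δ hsurj hJ hsub (Ideal.mem_sup_left (Ideal.mem_map_of_mem _ ha'))).trans ?_
    rw [hδm.dpow_comp a' ha']
    rfl
  · rw [← hΦx l 1, ← hΦx l n]
    refine (Quotient.OfSurjective.dpow_apply δ hsurj hJ hsub
      (Ideal.mem_sup_right (IsModel.x_mem_aug one_ne_zero))).trans ?_
    rw [hδx]
    rfl

end DPPolyLib
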